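import Mathlib.Algebra.Lie.Basic
import Mathlib.LinearAlgebra.Basis.Basic
import Mathlib.LinearAlgebra.Basis.Submodule
import Mathlib.Tactic.Module
import Mathlib.Tactic.LinearCombination

/-!
# Morphisms of three-dimensional solvable Lie algebras with an abelian ideal of rank two
-/

universe u v w

namespace Groth.Agent.LieThree

variable {A : Type u} [CommRing A] {L : Type v} [LieRing L] [LieAlgebra A L] {L' : Type w} [LieRing L'] [LieAlgebra A L']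

theorem comps_inj (bs : Module.Basis (Fin 3) A L) {a b c a' b' c' : A}
    (h : a • bs 0 + b • bs 1 + c • bs 2 = a' • bs 0 + b' • bs 1 + c' • bs 2) : a = a' ∧ b = b' ∧ c = c' := by
  have := congrArg bs.repr h
  simp only [map_add, map_smul, Module.Basis.repr_self] at this
  exact ⟨by simpa using DFunLike.congr_fun this 0, by simpa using DFunLike.congr_fun this 1,
    by simpa using DFunLike.congr_fun this 2⟩

theorem eq_comps (bs : Module.Basis (Fin 3) A L) (v : L) :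
    v = bs.repr v 0 • bs 0 + bs.repr v 1 • bs 1 + bs.repr v 2 • bs 2 := by
  conv_lhs => rw [← bs.sum_repr v, Fin.sum_univ_three]

theorem lie_comps (bs : Module.Basis (Fin 3) A L) (p₁ p₂ q₁ q₂ : A)
    (hxy : ⁅bs 0, bs 1⁆ = p₁ • bs 1 + p₂ • bs 2) (hxz : ⁅bs 0, bs 2⁆ = q₁ • bs 1 + q₂ • bs 2)
    (hyz : ⁅bs 1, bs 2⁆ = 0) (a b c a' b' c' : A) :
    ⁅a • bs 0 + b • bs 1 + c • bs 2, a' • bs 0 + b' • bs 1 + c' • bs 2⁆ =
      (0 : A) • bs 0 + ((a * b' - b * a') * p₁ + (a * c' - c * a') * q₁) • bs 1 +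
        ((a * b' - b * a') * p₂ + (a * c' - c * a') * q₂) • bs 2 := by
  have hyx : ⁅bs 1, bs 0⁆ = -(p₁ • bs 1 + p₂ • bs 2) := by rw [← hxy, lie_skew]
  have hzx : ⁅bs 2, bs 0⁆ = -(q₁ • bs 1 + q₂ • bs 2) := by rw [← hxz, lie_skew]
  have hzy : ⁅bs 2, bs 1⁆ = 0 := by rw [← lie_skew, hyz, neg_zero]
  simp only [add_lie, lie_add, smul_lie, lie_smul, lie_self, hxy, hxz, hyz, hyx, hzx, hzy, smul_add, smul_zero, smul_neg,
    smul_smul]
  module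

/-- The shape of an isomorphism. -/
theorem shape (bs : Module.Basis (Fin 3) A L) (bs' : Module.Basis (Fin 3) A L') {p₁ p₂ q₁ q₂ p₁' p₂' q₁' q₂' : A}
    (hD : IsUnit (p₁ * q₂ - p₂ * q₁)) (hD' : IsUnit (p₁' * q₂' - p₂' * q₁'))
    (hxy : ⁅bs 0, bs 1⁆ = p₁ • bs 1 + p₂ • bs 2) (hxz : ⁅bs 0, bs 2⁆ = q₁ • bs 1 + q₂ • bs 2) (hyz : ⁅bs 1, bs 2⁆ = 0)
    (hxy' : ⁅bs' 0, bs' 1⁆ = p₁' • bs' 1 + p₂' • bs' 2) (hxz' : ⁅bs' 0, bs' 2⁆ = q₁' • bs' 1 + q₂' • bs' 2) (hyz' : ⁅bs' 1, bs' 2⁆ = 0)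
    (φ : L ≃ₗ⁅A⁆ L') :
    ∃ a b c e f h i : A, IsUnit a ∧ IsUnit (e * i - f * h) ∧
      φ (bs 0) = a • bs' 0 + b • bs' 1 + c • bs' 2 ∧
      φ (bs 1) = e • bs' 1 + f • bs' 2 ∧ φ (bs 2) = h • bs' 1 + i • bs' 2 ∧
      e * p₁ + h * p₂ = a * (e * p₁' + f * q₁') ∧ f * p₁ + i * p₂ = a * (e * p₂' + f * q₂') ∧
      e * q₁ + h * q₂ = a * (h * p₁' + i * q₁') ∧ f * q₁ + i * q₂ = a * (h * p₂' + i * q₂') := by
  -- images of `y` and `z` have no `x` component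
  have gen : ∀ {M : Type v} {M' : Type w} [LieRing M] [LieAlgebra A M] [LieRing M'] [LieAlgebra A M']
      (m : Module.Basis (Fin 3) A M) (m' : Module.Basis (Fin 3) A M') (r₁ r₂ s₁ s₂ r₁' r₂' s₁' s₂' : A),
      IsUnit (r₁ * s₂ - r₂ * s₁) → ⁅m 0, m 1⁆ = r₁ • m 1 + r₂ • m 2 → ⁅m 0, m 2⁆ = s₁ • m 1 + s₂ • m 2 →
      ⁅m' 0, m' 1⁆ = r₁' • m' 1 + r₂' • m' 2 → ⁅m' 0, m' 2⁆ = s₁' • m' 1 + s₂' • m' 2 → ⁅m' 1, m' 2⁆ = 0 →
      ∀ ψ : M ≃ₗ⁅A⁆ M', m'.repr (ψ (m 1)) 0 = 0 ∧ m'.repr (ψ (m 2)) 0 = 0 := by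
    intro M M' _ _ _ _ m m' r₁ r₂ s₁ s₂ r₁' r₂' s₁' s₂' hu h1 h2 h1' h2' h3' ψ
    have hbr : ∀ u v : M, m'.repr (ψ ⁅u, v⁆) 0 = 0 := by
      intro u v
      rw [LieEquiv.map_lie, eq_comps m' (ψ u), eq_comps m' (ψ v), lie_comps m' _ _ _ _ h1' h2' h3']
      simp [map_add, map_smul]
    have e1 := hbr (m 0) (m 1)
    have e2 := hbr (m 0) (m 2)
    rw [h1] at e1
    rw [h2] at e2
    simp only [← LieEquiv.coe_toLinearEquiv, map_add, map_smul, Finsupp.add_apply, Finsupp.smul_apply, smul_eq_mul] at e1 e2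
    exact ⟨hu.mul_right_eq_zero.1 (by simp only [← LieEquiv.coe_toLinearEquiv]; linear_combination s₂ * e1 - r₂ * e2),
      hu.mul_right_eq_zero.1 (by simp only [← LieEquiv.coe_toLinearEquiv]; linear_combination r₁ * e2 - s₁ * e1)⟩
  obtain ⟨hy0, hz0⟩ := gen bs bs' p₁ p₂ q₁ q₂ p₁' p₂' q₁' q₂' hD hxy hxz hxy' hxz' hyz' φ
  set a := bs'.repr (φ (bs 0)) 0
  set b := bs'.repr (φ (bs 0)) 1
  set c := bs'.repr (φ (bs 0)) 2
  set e := bs'.repr (φ (bs 1)) 1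
  set f := bs'.repr (φ (bs 1)) 2
  set h := bs'.repr (φ (bs 2)) 1
  set i := bs'.repr (φ (bs 2)) 2
  have hx : φ (bs 0) = a • bs' 0 + b • bs' 1 + c • bs' 2 := eq_comps bs' _
  have hy : φ (bs 1) = e • bs' 1 + f • bs' 2 := by
    conv_lhs => rw [eq_comps bs' (φ (bs 1)), hy0, zero_smul, zero_add]
  have hz : φ (bs 2) = h • bs' 1 + i • bs' 2 := by
    conv_lhs => rw [eq_comps bs' (φ (bs 2)), hz0, zero_smul, zero_add]
  have ey := congrArg φ hxy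
  have ez := congrArg φ hxz
  rw [LieEquiv.map_lie, hx, hy] at ey
  rw [LieEquiv.map_lie, hx, hz] at ez
  rw [show e • bs' 1 + f • bs' 2 = (0 : A) • bs' 0 + e • bs' 1 + f • bs' 2 by module, lie_comps bs' _ _ _ _ hxy' hxz' hyz',
    show φ (p₁ • bs 1 + p₂ • bs 2) = p₁ • φ (bs 1) + p₂ • φ (bs 2) by simp [← LieEquiv.coe_toLinearEquiv], hy, hz,
    show p₁ • (e • bs' 1 + f • bs' 2) + p₂ • (h • bs' 1 + i • bs' 2) =
      (0 : A) • bs' 0 + (p₁ * e + p₂ * h) • bs' 1 + (p₁ * f + p₂ * i) • bs' 2 by module] at ey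
  rw [show h • bs' 1 + i • bs' 2 = (0 : A) • bs' 0 + h • bs' 1 + i • bs' 2 by module, lie_comps bs' _ _ _ _ hxy' hxz' hyz',
    show φ (q₁ • bs 1 + q₂ • bs 2) = q₁ • φ (bs 1) + q₂ • φ (bs 2) by simp [← LieEquiv.coe_toLinearEquiv], hy, hz,
    show q₁ • (e • bs' 1 + f • bs' 2) + q₂ • (h • bs' 1 + i • bs' 2) =
      (0 : A) • bs' 0 + (q₁ * e + q₂ * h) • bs' 1 + (q₁ * f + q₂ * i) • bs' 2 by module] at ez
  obtain ⟨-, y1, y2⟩ := comps_inj bs' ey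
  obtain ⟨-, z1, z2⟩ := comps_inj bs' ez
  -- the inverse has the same shape
  have hy0' : bs.repr (φ.symm (bs' 1)) 0 = 0 ∧ bs.repr (φ.symm (bs' 2)) 0 = 0 := by
    have hbr : ∀ u v : L', bs.repr (φ.symm ⁅u, v⁆) 0 = 0 := by
      intro u v
      rw [LieEquiv.map_lie, eq_comps bs (φ.symm u), eq_comps bs (φ.symm v), lie_comps bs _ _ _ _ hxy hxz hyz]
      simp [map_add, map_smul]
    have e1 := hbr (bs' 0) (bs' 1)
    have e2 := hbr (bs' 0) (bs' 2)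
    rw [hxy'] at e1
    rw [hxz'] at e2
    simp only [← LieEquiv.coe_toLinearEquiv, map_add, map_smul, Finsupp.add_apply, Finsupp.smul_apply, smul_eq_mul] at e1 e2
    exact ⟨hD'.mul_right_eq_zero.1 (by simp only [← LieEquiv.coe_toLinearEquiv]; linear_combination q₂' * e1 - p₂' * e2),
      hD'.mul_right_eq_zero.1 (by simp only [← LieEquiv.coe_toLinearEquiv]; linear_combination p₁' * e2 - q₁' * e1)⟩
  have back : ∀ v : L', v = (bs.repr (φ.symm v) 0 * a) • bs' 0 +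
      (bs.repr (φ.symm v) 0 * b + bs.repr (φ.symm v) 1 * e + bs.repr (φ.symm v) 2 * h) • bs' 1 +
      (bs.repr (φ.symm v) 0 * c + bs.repr (φ.symm v) 1 * f + bs.repr (φ.symm v) 2 * i) • bs' 2 := by
    intro v
    conv_lhs => rw [← φ.apply_symm_apply v, eq_comps bs (φ.symm v)]
    simp only [← LieEquiv.coe_toLinearEquiv, map_add, map_smul]
    simp only [LieEquiv.coe_toLinearEquiv, hx, hy, hz]
    module
  have b0 := back (bs' 0)
  have b1 := back (bs' 1)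
  have b2 := back (bs' 2)
  rw [hy0'.1] at b1
  rw [hy0'.2] at b2
  conv_lhs at b0 => rw [show bs' 0 = (1 : A) • bs' 0 + (0 : A) • bs' 1 + (0 : A) • bs' 2 by module]
  conv_lhs at b1 => rw [show bs' 1 = (0 : A) • bs' 0 + (1 : A) • bs' 1 + (0 : A) • bs' 2 by module]
  conv_lhs at b2 => rw [show bs' 2 = (0 : A) • bs' 0 + (0 : A) • bs' 1 + (1 : A) • bs' 2 by module]
  obtain ⟨a1, -, -⟩ := comps_inj bs' b0
  obtain ⟨-, m11, m12⟩ := comps_inj bs' b1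
  obtain ⟨-, m21, m22⟩ := comps_inj bs' b2
  refine ⟨a, b, c, e, f, h, i, IsUnit.of_mul_eq_one _ (by linear_combination -a1 : a * bs.repr (φ.symm (bs' 0)) 0 = 1),
    IsUnit.of_mul_eq_one (bs.repr (φ.symm (bs' 1)) 1 * bs.repr (φ.symm (bs' 2)) 2 - bs.repr (φ.symm (bs' 1)) 2 * bs.repr (φ.symm (bs' 2)) 1) ?_,
    hx, hy, hz, ?_, ?_, ?_, ?_⟩
  · linear_combination -(bs.repr (φ.symm (bs' 2)) 1 * f + bs.repr (φ.symm (bs' 2)) 2 * i) * m11
      + (bs.repr (φ.symm (bs' 2)) 1 * e + bs.repr (φ.symm (bs' 2)) 2 * h) * m12 - m22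
  · linear_combination -y1
  · linear_combination -y2
  · linear_combination -z1
  · linear_combination -z2

end Groth.Agent.LieThree
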